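import Groth.Agent.Lib.DbCohPn9.Main
import Groth.Agent.Lib.DbCohPn9.Transfer
import Groth.Agent.Lib.CurveCoh17.Pairing
import Groth.Agent.Lib.RelPCS8.ClosedPush
import Groth.Agent.Lib.PicPn.Family
import Groth.Agent.Lib.RHom.ProjClosed
import Groth.Agent.Lib.CohFound.ClosedImmPush
import Groth.Agent.Lib.DGen9.PerfMain
import Groth.Agent.Lib.DGen9.Bounded
import Groth.Agent.S6758
import Groth.Prelude.Def_RelProj

/-! Bounded coherent objects on a projective scheme over a field through maps from perfect objects. -/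

set_option autoImplicit false
set_option linter.style.haveILetI false
set_option linter.unusedSectionVars false
set_option backward.isDefEq.respectTransparency false
set_option backward.isDefEq.respectTransparency.types false
set_option maxHeartbeats 1600000

universe u

open CategoryTheory CategoryTheory.Limits AlgebraicGeometry CategoryTheory.Pretriangulated
open Groth.Agent.TwistBC9 (oneD)

attribute [local instance] HasDerivedCategory.standard
attribute [local instance] Groth.Agent.DBC9.hasRpush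

namespace Groth.Agent.DbCohProj9

variable {k : Type u} [Field k] {X : Scheme.{u}} [X.Over (Spec (CommRingCat.of k))]

theorem linear_tensorRightMod (M : X.Modules) : (DCoh.tensorRightMod M).Linear k := by
  refine (Functor.linear_iff k _).mpr fun N a => ?_
  rw [KLin.smul_id, KLin.smul_id]
  exact (VB17.whisker_eq_tensorMap (Formal.smulMod k N a) M).trans (CurveCoh17.tensorMap_smulModΓ N M _)

theorem linear_twD (M : X.Modules) [PreservesFiniteLimits (DCoh.tensorRightMod M)] :
    (PnKoszul9.twD M).Linear k := by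
  haveI := linear_tensorRightMod (k := k) M
  let T := DCoh.tensorRightMod M
  refine (Functor.linear_iff k _).mpr fun K a => ?_
  let F := DerivedCategory.Q.objPreimage K
  let e : DerivedCategory.Q.obj F ≅ K := DerivedCategory.Q.objObjPreimageIso K
  let c := T.mapDerivedCategoryFactors.app F
  have h1 : (PnKoszul9.twD M).map (DerivedCategory.Q.map (a • 𝟙 F)) = a • 𝟙 _ := by
    have hc : (T.mapHomologicalComplex (ComplexShape.up ℤ)).map (a • 𝟙 F) = a • 𝟙 _ := by
      refine HomologicalComplex.hom_ext _ _ fun i => ?_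
      simp
    rw [← cancel_mono c.hom]
    refine (T.mapDerivedCategoryFactors.hom.naturality (a • 𝟙 F)).trans ?_
    rw [Functor.comp_map, hc, Functor.map_smul, CategoryTheory.Functor.map_id, Linear.comp_smul, Linear.smul_comp,
      Category.id_comp]
    exact congrArg (a • ·) (Category.comp_id _)
  have hK : (a • 𝟙 K : K ⟶ K) = e.inv ≫ DerivedCategory.Q.map (a • 𝟙 F) ≫ e.hom := by
    rw [Functor.map_smul, CategoryTheory.Functor.map_id, Linear.smul_comp, Category.id_comp, Linear.comp_smul,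
      Iso.inv_hom_id]
  rw [hK, Functor.map_comp, Functor.map_comp, h1, Linear.smul_comp, Category.id_comp, Linear.comp_smul,
    ← Functor.map_comp, Iso.inv_hom_id, CategoryTheory.Functor.map_id]

theorem isCohD_shift {K : DCoh.D X} (h : DCoh.IsCohD K) (i : ℤ) : DCoh.IsCohD (K⟦i⟧) := fun j =>
  CohFound.isCoh_of_iso (((DerivedCategory.homologyFunctor X.Modules 0).shiftIso i j (i + j) rfl).app K).symm (h (i + j))

/-- Maps from perfect objects to bounded coherent objects on a proper scheme. -/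
theorem finite_perfect_cohbP [IsProper (X ↘ Spec (CommRingCat.of k))] {K E : DCoh.D X} (hK : SGA6.cohbP X K)
    (hE : DCoh.IsPerfect E) :
    (∀ i : ℤ, Module.Finite k (E ⟶ K⟦i⟧)) ∧ Set.Finite {i : ℤ | Nontrivial (E ⟶ K⟦i⟧)} := by
  haveI : IsLocallyNoetherian X := LocallyOfFiniteType.isLocallyNoetherian (X ↘ Spec (CommRingCat.of k))
  haveI : CompactSpace X := QuasiCompact.compactSpace_of_compactSpace (X ↘ Spec (CommRingCat.of k))
  haveI : QuasiSeparatedSpace X := quasiSeparatedSpace_of_quasiSeparated (X ↘ Spec (CommRingCat.of k))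
  obtain ⟨hc, a, b, ha, hb⟩ := hK
  obtain ⟨e, he⟩ := DPerf.exists_isLE_of_pseudoCoherent (DGen9.isPseudoCoherentD_of_isPerfect hE 0)
  haveI := ha
  haveI := he
  have hEc : DCoh.IsCohD E := fun i => DPerf.isCoh_HD_of_pseudoCoherent (DGen9.isPseudoCoherentD_of_isPerfect hE i)
    (DGen9.isQCohD_of_isPerfect hE i) le_rfl
  refine ⟨fun i => ?_, ?_⟩
  · haveI : (K⟦i⟧).IsGE (a - i) := DerivedCategory.TStructure.t.isGE_shift K a i (a - i) (by omega)
    exact ExtFin9.finite_hom k E (K⟦i⟧) hEc e (isCohD_shift hc i) (a - i)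
  · obtain ⟨u, hu⟩ := Filter.eventually_atTop.1 (DGen9.evOrth_of_evAc DGen9.niceDir_atTop hE (fun j => (hc j).1)
      (Filter.eventually_atTop.2 ⟨b + 1, fun j hj => (DerivedCategory.isLE_iff _ _).1 hb j (by omega)⟩))
    obtain ⟨l, hl⟩ := Filter.eventually_atBot.1 (DGen9.evOrth_of_evAc DGen9.niceDir_atBot hE (fun j => (hc j).1)
      (Filter.eventually_atBot.2 ⟨a - 1, fun j hj => (DerivedCategory.isGE_iff _ _).1 ha j (by omega)⟩))
    refine (Set.finite_Icc l u).subset fun i hi => ?_
    by_contra hn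
    have h0 : ∀ φ : E⟦-i⟧ ⟶ K, φ = 0 := by
      simp only [Set.mem_Icc, not_and_or, not_le] at hn
      rcases hn with h | h
      · exact hl i (by omega)
      · exact hu i (by omega)
    have hs : Subsingleton (E ⟶ K⟦i⟧) := ⟨fun f g => by
      let u := (shiftEquiv (DCoh.D X) i).unitIso.app K
      have : ∀ f : E ⟶ K⟦i⟧, f = 0 := fun f => by
        apply (shiftFunctor (DCoh.D X) (-i)).map_injective
        rw [Functor.map_zero, ← cancel_mono u.inv, zero_comp]
        exact h0 _
      rw [this f, this g]⟩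
    exact not_nontrivial_iff_subsingleton.2 hs hi

section Proj

variable {n : ℕ} (i : X ⟶ CohB1.ProjSpaceOver n (Spec (CommRingCat.of k))) [IsClosedImmersion i]
  [i.IsOver (Spec (CommRingCat.of k))]

local notation "P" => CohB1.ProjSpaceOver n (Spec (CommRingCat.of k))

theorem cohbP_of_push {K : DCoh.D X} (hq : DCoh.IsQCohD K) (h : SGA6.cohbP P ((RelPCS8.pushD i).obj K)) :
    SGA6.cohbP X K := by
  obtain ⟨hc, a, b, ha, hb⟩ := h
  exact ⟨fun j => ⟨hq j, RelPCS8.isFT_of_push i (CohFound.isCoh_of_iso (RelPCS8.hdPushDIso i K j) (hc j)).2⟩, a, b,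
    (DerivedCategory.isGE_iff _ _).2 fun j hj =>
      (RelPCS8.isZero_HD_push_iff i K j).1 ((DerivedCategory.isGE_iff _ _).1 ha j hj),
    (DerivedCategory.isLE_iff _ _).2 fun j hj =>
      (RelPCS8.isZero_HD_push_iff i K j).1 ((DerivedCategory.isLE_iff _ _).1 hb j hj)⟩

/-- Cohomology of twists of a direct image as maps from a perfect object. -/
theorem exists_perfect_source {K : DCoh.D X} (d : ℤ) [∀ e : ℤ, DCoh.HasLTensorMod (_root_.Twist.twistOver n (Spec (CommRingCat.of k)) e)] :
    ∃ E : DCoh.D X, DCoh.IsPerfect E ∧ ∀ j : ℤ, Nonempty ((E ⟶ K⟦j⟧) ≃ₗ[k]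
      (DCoh.inD P (Coh.structureModule P) ⟶
        ((DCoh.LTensorMod (_root_.Twist.twistOver n (Spec (CommRingCat.of k)) d)).obj ((RelPCS8.pushD i).obj K))⟦j⟧)) := by
  let L := _root_.Twist.twistOver n (Spec (CommRingCat.of k)) d
  haveI := PnKoszul9.preservesFiniteLimits_tensorRightMod L (Twist.isInvertible_twistOver n _ d)
  haveI := PnKoszul9.isEquivalence_twD L (Twist.isInvertible_twistOver n _ d)
  haveI := linear_twD (k := k) L
  haveI := SerreP9.linear_rpush k i
  haveI : (DCoh.Rpush i).Additive :=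
    haveI := (DMon9.adjLP i).isRightAdjoint
    haveI := preservesBinaryBiproducts_of_preservesBinaryProducts (DCoh.Rpush i)
    Functor.additive_of_preservesBinaryBiproducts _
  obtain ⟨cs, _⟩ := DPush.exists_commShift_isTriangulated i
  letI := cs
  obtain ⟨e₁⟩ := PnKoszul9.nonempty_ltensorMod_twD L
  obtain ⟨r⟩ := RHom.nonempty_rpushIso i
  let O := DCoh.inD P (Coh.structureModule P)
  let E₀ := (PnKoszul9.twD L).objPreimage O
  let w : (PnKoszul9.twD L).obj E₀ ≅ O := (PnKoszul9.twD L).objObjPreimageIso O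
  have hE₀ : DCoh.IsPerfect E₀ := by
    let L' := _root_.Twist.twistOver n (Spec (CommRingCat.of k)) (-d)
    obtain ⟨t⟩ := PicPn.nonempty_tensor_twistOver_cancel (r := n) (S := Spec (CommRingCat.of k))
      (Coh.structureModule P) (neg_add_cancel d)
    let t' : CohB1.tensorMod (CohB1.tensorMod (Coh.structureModule P) L') L ≅ Coh.structureModule P := t
    let e : (PnKoszul9.twD L).obj ((DerivedCategory.singleFunctor (P).Modules 0).obj
        (CohB1.tensorMod (Coh.structureModule P) L')) ≅ (PnKoszul9.twD L).obj E₀ :=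
      PnKoszul9.twDSingle L _ 0 ≪≫ (DerivedCategory.singleFunctor (P).Modules 0).mapIso t' ≪≫ w.symm
    refine DGen9.isPerfect_of_iso ((PnKoszul9.twD L).preimageIso e) ?_
    exact DPerf.isPerfect_iff_approx.2 (DPerf.approx_inD_of_isFinLocFree (M2.isFinLocFree_tensor
      (ResDesc11.isFinLocFree_structureModule P)
      (M2.isFinLocFree_of_isInvertible (Twist.isInvertible_twistOver n _ (-d)))))
  refine ⟨(DMon9.lP i).obj E₀, PerfPush9.isPerfect_lP i hE₀, fun j => ⟨?_⟩⟩
  let adj := DMon9.adjLP i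
  let A₁ : ((DMon9.lP i).obj E₀ ⟶ K⟦j⟧) ≃ₗ[k] (E₀ ⟶ (DCoh.Rpush i).obj (K⟦j⟧)) :=
    { adj.homEquiv _ _ with
      map_add' := fun f g => by
        show adj.homEquiv _ _ (f + g) = _
        rw [adj.homEquiv_unit, Functor.map_add, Preadditive.comp_add, ← adj.homEquiv_unit, ← adj.homEquiv_unit]
        rfl
      map_smul' := fun c f => by
        show adj.homEquiv _ _ (c • f) = c • adj.homEquiv _ _ f
        rw [adj.homEquiv_unit, Functor.map_smul, Linear.comp_smul, ← adj.homEquiv_unit] }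
  let M := (RelPCS8.pushD i).obj K
  let A₂ : (E₀ ⟶ (DCoh.Rpush i).obj (K⟦j⟧)) ≃ₗ[k] (E₀ ⟶ M⟦j⟧) :=
    Linear.homCongr k (Iso.refl E₀) (((DCoh.Rpush i).commShiftIso j).app K ≪≫ (shiftFunctor _ j).mapIso (r.app K))
  let A₃ : (E₀ ⟶ M⟦j⟧) ≃ₗ[k] ((PnKoszul9.twD L).obj E₀ ⟶ (PnKoszul9.twD L).obj (M⟦j⟧)) :=
    LinearEquiv.ofBijective ((PnKoszul9.twD L).mapLinearMap k)
      ((Functor.FullyFaithful.ofFullyFaithful (PnKoszul9.twD L)).map_bijective _ _)
  exact ((A₁.trans A₂).trans A₃).trans (Linear.homCongr k w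
    (((PnKoszul9.twD L).commShiftIso j).app M ≪≫ (shiftFunctor _ j).mapIso (e₁.app M).symm))

end Proj

/-- The criterion on projective schemes. -/
theorem cohbP_iff_perfect (hproj : RelProj.IsHProjective (X ↘ Spec (CommRingCat.of k))) (K : DCoh.D X)
    (hK : DCoh.IsQCohD K) :
    SGA6.cohbP X K ↔ ∀ E : DCoh.D X, DCoh.IsPerfect E →
      (∀ i : ℤ, Module.Finite k (E ⟶ K⟦i⟧)) ∧ Set.Finite {i : ℤ | Nontrivial (E ⟶ K⟦i⟧)} := by
  obtain ⟨n, i, hi, hfac⟩ := hproj
  haveI := hi
  haveI : i.IsOver (Spec (CommRingCat.of k)) := ⟨hfac⟩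
  haveI : IsProper (X ↘ Spec (CommRingCat.of k)) := by
    rw [← hfac]
    infer_instance
  refine ⟨fun h E hE => finite_perfect_cohbP h hE, fun h => ?_⟩
  let P := CohB1.ProjSpaceOver n (Spec (CommRingCat.of k))
  haveI : ∀ e : ℤ, DCoh.HasLTensorMod (_root_.Twist.twistOver n (Spec (CommRingCat.of k)) e) :=
    fun e => KFlat.Sch.hasLTensorMod _
  have hq : DCoh.IsQCohD ((RelPCS8.pushD i).obj K) := fun j =>
    M1.isQCoh_of_isIso (RelPCS8.hdPushDIso i K j).symm (M1.isQCoh_push i (hK j))
  refine cohbP_of_push i hK ((S6758.result k n _ hq).2 fun d _ => ?_)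
  obtain ⟨E, hE, hA⟩ := exists_perfect_source i (K := K) (d : ℤ)
  obtain ⟨hf, hs⟩ := h E hE
  refine ⟨fun j => ?_, hs.subset fun j hj => ?_⟩
  · obtain ⟨A⟩ := hA j
    haveI := hf j
    exact Module.Finite.equiv A
  · obtain ⟨A⟩ := hA j
    exact A.toEquiv.nontrivial_congr.2 hj

end Groth.Agent.DbCohProj9
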